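import Groth.Agent.Sga7.H132.Cot
import Mathlib.RingTheory.Smooth.Basic
import Mathlib.RingTheory.Smooth.Kaehler
import Mathlib.RingTheory.Nakayama
import Mathlib.RingTheory.Localization.Away.Basic
import Mathlib.RingTheory.Localization.Submodule
import Mathlib.RingTheory.Localization.FractionRing
import Mathlib.RingTheory.Smooth.StandardSmoothCotangent
import Mathlib.Algebra.MvPolynomial.Derivation

/-!
# Equations of an algebra near a point with torsion free cotangent space
-/

set_option autoImplicit false
universe u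

namespace Groth.Agent.Sga7.H132.BetaA

open MvPolynomial TensorProduct KaehlerDifferential Groth.Agent.Sga7.H132.Levels Groth.Agent.Sga7.H132.Cot

/-- If `p/p²` is torsion free there are equations whose gradients form a basis of a direct summand. -/
theorem exists_equations {R : Type*} [CommRing R] [IsDomain R] [IsPrincipalIdealRing R] {B : Type*} [CommRing B]
    [Algebra R B] (a : B →ₐ[R] R) {ι : Type*} [Fintype ι] (f : MvPolynomial ι R →ₐ[R] B)
    (hf : Function.Surjective f) (hT : Submodule.torsion R (RingHom.ker a).Cotangent = ⊥) :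
    ∃ (r : ℕ) (g : Fin r → MvPolynomial ι R) (ρ : (ι → R) →ₗ[R] (Fin r → R)),
      (∀ i, f (g i) = 0) ∧ (∀ i, ρ (grad (a.comp f) (g i)) = Pi.single i 1) ∧
      (∀ h, f h = 0 → ∃ c : Fin r → R, grad (a.comp f) h = ∑ i, c i • grad (a.comp f) (g i)) := by
  classical
  set L : Submodule R (ι → R) := ((RingHom.ker f).restrictScalars R).map (grad (a.comp f)) with hL
  have hcot : Module.IsTorsionFree R (RingHom.ker a).Cotangent :=
    Submodule.isTorsionFree_iff_torsion_eq_bot.2 hT
  have htf : Module.IsTorsionFree R ((ι → R) ⧸ L) :=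
    (cotangentEquiv a f hf).injective.moduleIsTorsionFree _ (by intros; simp)
  have hfree : Module.Free R ((ι → R) ⧸ L) := inferInstance
  obtain ⟨σ, hσ⟩ := Module.projective_lifting_property L.mkQ (LinearMap.id (R := R) (M := (ι → R) ⧸ L))
    (Submodule.mkQ_surjective L)
  have hLfree : Module.Free R L := inferInstance
  let b := Module.finBasis R L
  let r := Module.finrank R L
  have hmem : ∀ v : ι → R, v - σ (L.mkQ v) ∈ L := by
    intro v
    have h0 : L.mkQ (v - σ (L.mkQ v)) = 0 := by
      rw [map_sub, sub_eq_zero]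
      exact (LinearMap.congr_fun hσ (L.mkQ v)).symm
    exact (Submodule.Quotient.mk_eq_zero L).1 h0
  let π : (ι → R) →ₗ[R] L := LinearMap.codRestrict L (LinearMap.id - σ ∘ₗ L.mkQ) hmem
  have hπ : ∀ v : L, π v = v := by
    intro v
    apply Subtype.ext
    change (v : ι → R) - σ (L.mkQ v) = v
    rw [(Submodule.Quotient.mk_eq_zero L).2 v.2 |> (show L.mkQ (v : ι → R) = 0 from ·), map_zero, sub_zero]
  have hg : ∀ i : Fin r, ∃ g : MvPolynomial ι R, f g = 0 ∧ grad (a.comp f) g = b i := by
    intro i
    obtain ⟨g, hg, hgi⟩ := (b i).2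
    exact ⟨g, hg, hgi⟩
  choose g hg0 hgb using hg
  refine ⟨r, g, (b.equivFun : L →ₗ[R] (Fin r → R)) ∘ₗ π, hg0, ?_, ?_⟩
  · intro i
    rw [hgb, LinearMap.comp_apply, hπ]
    ext j
    simp [Pi.single_apply, eq_comm]
  · intro h hh
    have hmem : grad (a.comp f) h ∈ L := ⟨h, hh, rfl⟩
    refine ⟨b.equivFun ⟨_, hmem⟩, ?_⟩
    have := b.sum_equivFun ⟨_, hmem⟩
    have h2 := congrArg L.subtype this
    simp only [hgb]
    rw [map_sum] at h2
    refine h2.symm.trans ?_
    exact Finset.sum_congr rfl fun i _ => by rw [map_smul]; rfl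

section

variable {R : Type u} [CommRing R] {ι : Type} [Fintype ι]

lemma der_eq_sum {M : Type*} [AddCommGroup M] [Module R M] [Module (MvPolynomial ι R) M]
    [IsScalarTower R (MvPolynomial ι R) M]
    (d : Derivation R (MvPolynomial ι R) M) (h : MvPolynomial ι R) :
    d h = ∑ j, pderiv j h • d (X j) := by
  classical
  induction h using MvPolynomial.induction_on with
  | C r => simp [← MvPolynomial.algebraMap_eq]
  | add p q hp hq => simp only [map_add, hp, hq, add_smul, Finset.sum_add_distrib]
  | mul_X p i hp =>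
    rw [Derivation.leibniz, hp, Finset.smul_sum]
    simp only [Derivation.leibniz, smul_eq_mul, add_smul, Finset.sum_add_distrib, mul_smul]
    congr 1
    have : ∀ j, (p • pderiv j (X i : MvPolynomial ι R) • d (X j)) =
        if j = i then p • d (X i) else 0 := by
      intro j
      rw [pderiv_X]
      split_ifs with h
      · subst h; simp
      · rw [Pi.single_eq_of_ne (Ne.symm h), zero_smul, smul_zero]
    rw [Finset.sum_congr rfl fun j _ => this j]
    simp

end

section generic

variable {R : Type u} [CommRing R] [IsDomain R] [IsNoetherianRing R] {B : Type u} [CommRing B] [Algebra R B]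
  (a : B →ₐ[R] R) {ι : Type} [Fintype ι] (f : MvPolynomial ι R →ₐ[R] B)

theorem generic_span (hf : Function.Surjective f) {ϖ : R} (hϖ : ϖ ≠ 0)
    (B' : Type u) [CommRing B'] [Algebra R B'] [Algebra B B'] [IsScalarTower R B B']
    [IsLocalization.Away (algebraMap R B ϖ) B'] [Algebra.FormallySmooth R B']
    {r : ℕ} (g : Fin r → MvPolynomial ι R) (hg : ∀ i, f (g i) = 0)
    (hspan : ∀ h, f h = 0 → ∃ c : Fin r → R, grad (a.comp f) h = ∑ i, c i • grad (a.comp f) (g i)) :
    ∀ h, f h = 0 → ∃ s : MvPolynomial ι R, a (f s) ≠ 0 ∧ s * h ∈ Ideal.span (Set.range g) := by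
  classical
  let P := MvPolynomial ι R
  let P' := Localization.Away (C ϖ : P)
  let : Algebra P B' := ((algebraMap B B').comp f.toRingHom).toAlgebra
  have halg : ∀ x : P, algebraMap P B' x = algebraMap B B' (f x) := fun x => rfl
  have hfC : ∀ r : R, f (C r) = algebraMap R B r := fun r => by
    rw [← MvPolynomial.algebraMap_eq, AlgHom.commutes]
  have hST : IsScalarTower R P B' := IsScalarTower.of_algebraMap_eq fun x => by
    rw [MvPolynomial.algebraMap_eq, halg, hfC, ← IsScalarTower.algebraMap_apply]
  have hu : IsUnit (algebraMap P B' (C ϖ)) := by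
    rw [halg, hfC]
    exact IsLocalization.Away.algebraMap_isUnit (algebraMap R B ϖ)
  let : Algebra P' B' := (IsLocalization.Away.lift (C ϖ : P) hu : P' →+* B').toAlgebra
  have halg' : ∀ x : P, algebraMap P' B' (algebraMap P P' x) = algebraMap B B' (f x) := fun x => by
    rw [← halg]
    exact IsLocalization.Away.lift_eq (C ϖ : P) hu x
  have hST2 : IsScalarTower P P' B' := IsScalarTower.of_algebraMap_eq fun x => (halg' x).symm
  have hST3 : IsScalarTower R P' B' := IsScalarTower.of_algebraMap_eq fun x => by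
    rw [IsScalarTower.algebraMap_apply R P P', halg', MvPolynomial.algebraMap_eq, hfC,
      ← IsScalarTower.algebraMap_apply]
  have hs : Function.Surjective (algebraMap P' B') := by
    intro y
    obtain ⟨n, b, hb⟩ := IsLocalization.Away.surj (algebraMap R B ϖ) y
    obtain ⟨b, rfl⟩ := hf b
    refine ⟨algebraMap P P' b * IsLocalization.Away.invSelf (C ϖ : P) ^ n, ?_⟩
    have h1 : (algebraMap P P' (C ϖ)) * IsLocalization.Away.invSelf (S := P') (C ϖ : P) = 1 :=
      IsLocalization.Away.mul_invSelf (C ϖ : P)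
    have h2 : algebraMap B B' (algebraMap R B ϖ) *
        algebraMap P' B' (IsLocalization.Away.invSelf (S := P') (C ϖ : P)) = 1 := by
      rw [← hfC, ← halg', ← map_mul, h1, map_one]
    rw [map_mul, halg', map_pow, ← hb, mul_assoc, ← mul_pow, h2, one_pow, mul_one]
  have hFS : Algebra.FormallySmooth P P' := Algebra.FormallySmooth.of_isLocalization (Submonoid.powers (C ϖ : P))
  have hFS2 : Algebra.FormallySmooth R P' := Algebra.FormallySmooth.comp R P P'
  set I' : Ideal P' := RingHom.ker (algebraMap P' B') with hI'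
  obtain ⟨l, hl⟩ : ∃ l : B' ⊗[P'] Ω[P'⁄R] →ₗ[P'] I'.Cotangent, l ∘ₗ (kerCotangentToTensor R P' B') = LinearMap.id :=
    (Algebra.FormallySmooth.iff_split_injection (R := R) (P := P') (A := B') hs).1 inferInstance
  let e (j : ι) : I'.Cotangent := l (1 ⊗ₜ D R P' (algebraMap P P' (X j)))
  have key : ∀ (h : P) (hh : algebraMap P P' h ∈ I'), I'.toCotangent ⟨_, hh⟩ =
      ∑ j, algebraMap P P' (pderiv j h) • e j := by
    intro h hh
    have h1 : l (kerCotangentToTensor R P' B' (I'.toCotangent ⟨_, hh⟩)) = I'.toCotangent ⟨_, hh⟩ :=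
      LinearMap.congr_fun hl _
    rw [← h1, kerCotangentToTensor_toCotangent]
    have h2 : D R P' (algebraMap P P' h) = ∑ j, algebraMap P P' (pderiv j h) • D R P' (algebraMap P P' (X j)) := by
      have := der_eq_sum ((D R P').compAlgebraMap P) h
      refine this.trans (Finset.sum_congr rfl fun j _ => ?_)
      rw [algebraMap_smul]
      rfl
    simp only [h2, tmul_sum, map_sum, tmul_smul, map_smul, e]
  let K := FractionRing R
  let β : P →+* K := (algebraMap R K).comp (a.comp f).toRingHom
  have hβ : ∀ x : P, β x = algebraMap R K (a (f x)) := fun x => rfl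
  have haC : ∀ r : R, a (f (C r)) = r := fun r => by rw [hfC, AlgHom.commutes]; rfl
  have hinjK : Function.Injective (algebraMap R K) := IsFractionRing.injective R K
  have huK : IsUnit (β (C ϖ)) := by
    rw [hβ, haC, isUnit_iff_ne_zero, Ne, map_eq_zero_iff _ hinjK]
    exact hϖ
  let α' : P' →+* K := IsLocalization.Away.lift (C ϖ : P) huK
  have hα' : ∀ x : P, α' (algebraMap P P' x) = algebraMap R K (a (f x)) := fun x => by
    rw [← hβ]; exact IsLocalization.Away.lift_eq (C ϖ : P) huK x
  -- elements of the kernel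
  have hker : ∀ x ∈ I', ∃ (n : ℕ) (h : P), f h = 0 ∧ algebraMap P P' h = algebraMap P P' (C ϖ) ^ n * x := by
    intro x hx
    obtain ⟨n, b, hb⟩ := IsLocalization.Away.surj (C ϖ : P) x
    have h1 : algebraMap B B' (f b) = 0 := by
      rw [← halg', ← hb, map_mul, show algebraMap P' B' x = 0 from hx, zero_mul]
    obtain ⟨⟨_, m, rfl⟩, hm⟩ := (IsLocalization.map_eq_zero_iff (Submonoid.powers (algebraMap R B ϖ)) B' _).1 h1
    refine ⟨m + n, C ϖ ^ m * b, ?_, ?_⟩
    · rw [map_mul, map_pow, hfC]; exact hm
    · rw [map_mul, map_pow, ← hb]; ring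
  have hunit : IsUnit (algebraMap P P' (C ϖ)) := IsLocalization.Away.algebraMap_isUnit (C ϖ : P)
  set p' : Ideal P' := RingHom.ker α' with hp'
  have hIp : I' ≤ p' := by
    intro x hx
    obtain ⟨n, h, hh, hx'⟩ := hker x hx
    have h1 : α' (algebraMap P P' (C ϖ) ^ n * x) = 0 := by
      rw [← hx', hα', hh, map_zero, map_zero]
    rw [map_mul, mul_eq_zero] at h1
    rcases h1 with h1 | h1
    · exact absurd h1 ((hunit.pow n).map α').ne_zero
    · exact h1
  have hclaim : I' ≤ (Ideal.span (Set.range g)).map (algebraMap P P') ⊔ p' • I' := by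
    intro x hx
    obtain ⟨n, h, hh, hx'⟩ := hker x hx
    suffices hsuff : algebraMap P P' h ∈ (Ideal.span (Set.range g)).map (algebraMap P P') ⊔ p' • I' by
      rw [hx'] at hsuff
      exact (Ideal.unit_mul_mem_iff_mem _ (hunit.pow n)).1 hsuff
    obtain ⟨c, hc⟩ := hspan h hh
    set h' : P := h - ∑ i, C (c i) * g i with hh'
    have hfh' : f h' = 0 := by
      rw [hh', map_sub, hh, map_sum, zero_sub, neg_eq_zero]
      exact Finset.sum_eq_zero fun i _ => by rw [map_mul, hg, mul_zero]
    have hgrad : grad (a.comp f) h' = 0 := by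
      rw [hh', map_sub, map_sum, hc, sub_eq_zero]
      exact Finset.sum_congr rfl fun i _ => by rw [grad_C_mul]
    have hmem' : algebraMap P P' h' ∈ I' := by
      change algebraMap P' B' (algebraMap P P' h') = 0
      rw [halg', hfh', map_zero]
    have h1 : I'.toCotangent ⟨_, hmem'⟩ ∈ p' • (⊤ : Submodule P' I'.Cotangent) := by
      rw [key]
      refine Submodule.sum_mem _ fun j _ => Submodule.smul_mem_smul ?_ trivial
      change α' (algebraMap P P' (pderiv j h')) = 0
      rw [hα']
      have : grad (a.comp f) h' j = 0 := by rw [hgrad]; rfl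
      rw [grad_apply] at this
      change algebraMap R K ((a.comp f) (pderiv j h')) = 0
      rw [this, map_zero]
    have h2 : (p' • (⊤ : Submodule P' I'.Cotangent)) = (p' • (⊤ : Submodule P' I')).map I'.toCotangent := by
      rw [Submodule.map_smul'', Submodule.map_top, LinearMap.range_eq_top.2 I'.toCotangent_surjective]
    rw [h2] at h1
    obtain ⟨y, hy, hyx⟩ := h1
    have h3 : algebraMap P P' h' - y.1 ∈ p' • I' := by
      have := (Ideal.toCotangent_eq I').1 hyx.symm
      rw [pow_two] at this
      exact Ideal.mul_mono_left hIp this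
    have h4 : y.1 ∈ p' • I' := by
      have h6 := Submodule.mem_map_of_mem (f := I'.subtype) hy
      rw [Submodule.map_smul'', Submodule.map_top, Submodule.range_subtype] at h6
      exact h6
    have h5 : algebraMap P P' h' ∈ p' • I' := by
      have := Submodule.add_mem _ h3 h4
      rwa [sub_add_cancel] at this
    have h7 : algebraMap P P' h = algebraMap P P' (∑ i, C (c i) * g i) + algebraMap P P' h' := by
      rw [hh', map_sub]; ring
    rw [h7]
    refine Submodule.add_mem_sup (Ideal.mem_map_of_mem _ ?_) h5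
    exact Ideal.sum_mem _ fun i _ => Ideal.mul_mem_left _ _ (Ideal.subset_span ⟨i, rfl⟩)
  have hnoeth : IsNoetherianRing P' := IsLocalization.isNoetherianRing (Submonoid.powers (C ϖ : P)) _ inferInstance
  obtain ⟨s', hs', hs'I⟩ := Submodule.exists_sub_one_mem_and_smul_le_of_fg_of_le_sup
    (IsNoetherian.noetherian I') le_rfl hclaim
  intro h hh
  have hhI : algebraMap P P' h ∈ I' := by
    change algebraMap P' B' (algebraMap P P' h) = 0
    rw [halg', hh, map_zero]
  have h1 : s' * algebraMap P P' h ∈ (Ideal.span (Set.range g)).map (algebraMap P P') :=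
    hs'I (Submodule.smul_mem_pointwise_smul _ s' _ hhI)
  obtain ⟨n, s, hsn⟩ := IsLocalization.Away.surj (C ϖ : P) s'
  have h2 : algebraMap P P' (s * h) ∈ (Ideal.span (Set.range g)).map (algebraMap P P') := by
    rw [map_mul, ← hsn, mul_right_comm]
    exact Ideal.mul_mem_right _ _ h1
  obtain ⟨_, ⟨k, rfl⟩, hm⟩ := (IsLocalization.algebraMap_mem_map_algebraMap_iff (Submonoid.powers (C ϖ : P)) P' _ _).1 h2
  refine ⟨C ϖ ^ k * s, ?_, ?_⟩
  · have h3 : α' (s' * algebraMap P P' (C ϖ) ^ n) = α' (algebraMap P P' s) := by rw [hsn]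
    have h4 : α' s' = 1 := by
      have : α' (s' - 1) = 0 := hs'
      rw [map_sub, map_one, sub_eq_zero] at this
      exact this
    rw [map_mul, h4, one_mul, map_pow, hα', hα', haC, ← map_pow] at h3
    have h5 : a (f s) = ϖ ^ n := (hinjK h3).symm
    rw [map_mul, map_mul, h5, map_pow, map_pow, haC]
    exact mul_ne_zero (pow_ne_zero _ hϖ) (pow_ne_zero _ hϖ)
  · rw [mul_assoc]; exact hm

end generic

end Groth.Agent.Sga7.H132.BetaA
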