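import Groth.Agent.Sga7.H132.Levels
import Mathlib.RingTheory.Ideal.Cotangent
import Mathlib.Algebra.Module.Torsion.Basic
import Mathlib.Algebra.Module.Torsion.Free
import Mathlib.LinearAlgebra.FreeModule.PID
import Mathlib.RingTheory.DiscreteValuationRing.Basic

/-!
# The cotangent space of a point in terms of gradients

`B = R[X_i]/I` an `R`-algebra with an `R`-point `a : B → R`, `p = ker a`. Then `p/p² = R^ι / {grad g : g ∈ I}`.
-/

set_option autoImplicit false

namespace Groth.Agent.Sga7.H132.Cot

open MvPolynomial Groth.Agent.Sga7.H132.Levels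

section

variable {R : Type*} [CommRing R] {B : Type*} [CommRing B] [Algebra R B] (a : B →ₐ[R] R)

lemma sub_mem (b : B) : b - algebraMap R B (a b) ∈ RingHom.ker a := by
  simp [RingHom.mem_ker]

/-- The universal derivation at the point `a`. -/
noncomputable def dat : B →ₗ[R] (RingHom.ker a).Cotangent where
  toFun b := (RingHom.ker a).toCotangent ⟨b - algebraMap R B (a b), sub_mem a b⟩
  map_add' x y := by
    rw [← map_add]
    congr 1
    apply Subtype.ext
    change x + y - algebraMap R B (a (x + y)) =
      (x - algebraMap R B (a x)) + (y - algebraMap R B (a y))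
    rw [map_add, map_add]; ring
  map_smul' r x := by
    have h : (⟨r • x - algebraMap R B (a (r • x)), sub_mem a _⟩ : RingHom.ker a) =
        algebraMap R B r • ⟨x - algebraMap R B (a x), sub_mem a _⟩ := by
      apply Subtype.ext
      change r • x - algebraMap R B (a (r • x)) = algebraMap R B r • (x - algebraMap R B (a x))
      rw [map_smul, smul_eq_mul, map_mul, Algebra.smul_def, smul_eq_mul]; ring
    rw [h, map_smul, algebraMap_smul, RingHom.id_apply]

lemma dat_apply (b : B) :
    dat a b = (RingHom.ker a).toCotangent ⟨b - algebraMap R B (a b), sub_mem a b⟩ := rfl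

lemma dat_of_mem {b : B} (hb : b ∈ RingHom.ker a) : dat a b = (RingHom.ker a).toCotangent ⟨b, hb⟩ := by
  rw [dat_apply]
  congr 1
  apply Subtype.ext
  change b - algebraMap R B (a b) = b
  rw [show a b = 0 from hb, map_zero, sub_zero]

lemma dat_surjective : Function.Surjective (dat a) := by
  intro x
  obtain ⟨⟨x, hx⟩, rfl⟩ := (RingHom.ker a).toCotangent_surjective x
  exact ⟨x, dat_of_mem a hx⟩

lemma dat_isDer : IsDer a (dat a) := by
  intro z w
  have h : (⟨z * w - algebraMap R B (a (z * w)), sub_mem a _⟩ : RingHom.ker a) =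
      algebraMap R B (a z) • ⟨w - algebraMap R B (a w), sub_mem a _⟩ +
      algebraMap R B (a w) • ⟨z - algebraMap R B (a z), sub_mem a _⟩ +
      (z - algebraMap R B (a z)) • ⟨w - algebraMap R B (a w), sub_mem a _⟩ := by
    apply Subtype.ext
    change z * w - algebraMap R B (a (z * w)) = algebraMap R B (a z) * (w - algebraMap R B (a w)) +
      algebraMap R B (a w) * (z - algebraMap R B (a z)) +
      (z - algebraMap R B (a z)) * (w - algebraMap R B (a w))
    rw [map_mul, map_mul]; ring
  have h2 : (RingHom.ker a).toCotangent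
      ((z - algebraMap R B (a z)) • ⟨w - algebraMap R B (a w), sub_mem a _⟩) = 0 := by
    rw [Ideal.toCotangent_eq_zero, pow_two]
    exact Ideal.mul_mem_mul (sub_mem a z) (sub_mem a w)
  rw [dat_apply, h, map_add, h2, add_zero, map_add, map_smul, map_smul, algebraMap_smul, algebraMap_smul]
  rfl

variable {ι : Type*} [Fintype ι] (f : MvPolynomial ι R →ₐ[R] B)

/-- `R^ι → p/p²`. -/
noncomputable def psi : (ι → R) →ₗ[R] (RingHom.ker a).Cotangent :=
  Fintype.linearCombination R (fun i => dat a (f (X i)))

lemma psi_apply (v : ι → R) : psi a f v = ∑ i, v i • dat a (f (X i)) := by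
  rw [psi, Fintype.linearCombination_apply]

lemma psi_grad (b : MvPolynomial ι R) : psi a f (grad (a.comp f) b) = dat a (f b) := by
  rw [psi_apply]
  exact (level_zero (dat_isDer a) f b).symm

lemma psi_surjective (hf : Function.Surjective f) : Function.Surjective (psi a f) := by
  intro x
  obtain ⟨b, rfl⟩ := dat_surjective a x
  obtain ⟨b, rfl⟩ := hf b
  exact ⟨_, psi_grad a f b⟩

omit [Fintype ι] in
lemma grad_eq_zero_of_mem_sq (α : MvPolynomial ι R →ₐ[R] R) {u : MvPolynomial ι R}
    (hu : u ∈ (RingHom.ker α) ^ 2) : grad α u = 0 := by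
  rw [pow_two] at hu
  induction hu using Submodule.mul_induction_on' with
  | mem_mul_mem m hm n hn =>
    rw [grad_mul, show α m = 0 from hm, show α n = 0 from hn, zero_smul, zero_smul, add_zero]
  | add x _ y _ hx hy => rw [map_add, hx, hy, add_zero]

lemma ker_psi (hf : Function.Surjective f) :
    LinearMap.ker (psi a f) =
      ((RingHom.ker f).restrictScalars R).map (grad (a.comp f)) := by
  classical
  apply le_antisymm
  · intro v hv
    let b : MvPolynomial ι R := ∑ i, v i • X i
    have hb : grad (a.comp f) b = v := by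
      rw [map_sum]
      ext j
      simp [grad_X, Pi.single_apply]
    have h1 : dat a (f b) = 0 := by
      rw [← psi_grad, hb]; exact hv
    rw [dat_apply, Ideal.toCotangent_eq_zero] at h1
    have h2 : (RingHom.ker a) ^ 2 = ((RingHom.ker (a.comp f)) ^ 2).map f := by
      rw [Ideal.map_pow]
      congr 1
      apply le_antisymm
      · intro x hx
        obtain ⟨x, rfl⟩ := hf x
        exact Ideal.mem_map_of_mem _ hx
      · rw [Ideal.map_le_iff_le_comap]
        intro x hx
        exact hx
    change f b - algebraMap R B (a (f b)) ∈ _ at h1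
    rw [h2, Ideal.mem_map_iff_of_surjective f hf] at h1
    obtain ⟨u, hu, huf⟩ := h1
    refine ⟨b - C (a (f b)) - u, ?_, ?_⟩
    · change f (b - C (a (f b)) - u) = 0
      rw [map_sub, map_sub, huf, ← MvPolynomial.algebraMap_eq, AlgHom.commutes, sub_self]
    · rw [map_sub, map_sub, grad_C, grad_eq_zero_of_mem_sq _ hu, sub_zero, sub_zero, hb]
  · rintro _ ⟨g, hg, rfl⟩
    change f g = 0 at hg
    rw [LinearMap.mem_ker, psi_grad, hg, map_zero]

/-- `p/p² = R^ι / {grad g : g ∈ I}`. -/
noncomputable def cotangentEquiv (hf : Function.Surjective f) :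
    ((ι → R) ⧸ ((RingHom.ker f).restrictScalars R).map (grad (a.comp f))) ≃ₗ[R]
      (RingHom.ker a).Cotangent :=
  (Submodule.quotEquivOfEq _ _ (ker_psi a f hf).symm).trans
    ((psi a f).quotKerEquivOfSurjective (psi_surjective a f hf))

end

end Groth.Agent.Sga7.H132.Cot
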