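import Mathlib.Algebra.MvPolynomial.PDeriv
import Mathlib.RingTheory.Ideal.Operations
import Mathlib.RingTheory.LocalRing.MaximalIdeal.Basic
import Mathlib.Tactic.LinearCombination
import Mathlib.Tactic.Module

/-!
# Derivations on a dilatation: the levels argument

`B = R[T_i]` maps to a `ϖ`-torsion free `R`-algebra `A'` with an `R`-point `φ`.  Given an ideal `J` of `B` all of
whose elements become divisible by `ϖ` in `A'`, and the two "generic smoothness" hypotheses `(H1)`, `(H2)`, a derivation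
of `A'` at `φ` is determined on `θ(J² + I)/ϖ²` by the gradients.
-/

set_option autoImplicit false

namespace Groth.Agent.Sga7.H132.Levels

open MvPolynomial

variable {R : Type*} [CommRing R] {ι : Type*} {A' : Type*} [CommRing A'] [Algebra R A']
  {V : Type*} [AddCommGroup V] [Module R V]

/-- The gradient of a polynomial along an algebra homomorphism `α : R[T] → R`. -/
noncomputable def grad (α : MvPolynomial ι R →ₐ[R] R) : MvPolynomial ι R →ₗ[R] (ι → R) :=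
  LinearMap.pi fun l => α.toLinearMap.comp (pderiv l).toLinearMap

@[simp] lemma grad_apply (α : MvPolynomial ι R →ₐ[R] R) (b : MvPolynomial ι R) (l : ι) :
    grad α b l = α (pderiv l b) := rfl

lemma grad_mul (α : MvPolynomial ι R →ₐ[R] R) (b c : MvPolynomial ι R) :
    grad α (b * c) = α b • grad α c + α c • grad α b := by
  ext l
  simp only [grad_apply, Derivation.leibniz, smul_eq_mul, map_add, map_mul, Pi.add_apply, Pi.smul_apply]

@[simp] lemma grad_C (α : MvPolynomial ι R →ₐ[R] R) (r : R) : grad α (C r) = 0 := by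
  ext l
  simp

lemma grad_X [DecidableEq ι] (α : MvPolynomial ι R →ₐ[R] R) (i : ι) : grad α (X i) = Pi.single i 1 := by
  ext l
  rw [grad_apply, pderiv_X]
  by_cases h : i = l
  · subst h; simp
  · rw [Pi.single_eq_of_ne (Ne.symm h)]
    rw [Pi.single_eq_of_ne h, map_zero]

@[simp] lemma grad_one (α : MvPolynomial ι R →ₐ[R] R) : grad α 1 = 0 := by
  rw [← C_1, grad_C]

lemma grad_C_mul (α : MvPolynomial ι R →ₐ[R] R) (r : R) (b : MvPolynomial ι R) :
    grad α (C r * b) = r • grad α b := by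
  rw [← smul_eq_C_mul, map_smul]

variable [Fintype ι]

/-- A linear map satisfying the Leibniz rule at `φ`. -/
def IsDer (φ : A' →ₐ[R] R) (d : A' →ₗ[R] V) : Prop := ∀ z w, d (z * w) = φ z • d w + φ w • d z

section

variable {φ : A' →ₐ[R] R} {d : A' →ₗ[R] V} (hd : IsDer φ d) (θ : MvPolynomial ι R →ₐ[R] A')

include hd

omit [Fintype ι] in
lemma IsDer.one : d 1 = 0 := by
  have := hd 1 1
  simpa using this

omit [Fintype ι] in
lemma IsDer.algebraMap (r : R) : d (algebraMap R A' r) = 0 := by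
  rw [Algebra.algebraMap_eq_smul_one, map_smul, hd.one, smul_zero]

/-- Level 0: a derivation of `A'` on polynomials is given by the gradient. -/
lemma level_zero (b : MvPolynomial ι R) : d (θ b) = ∑ l, (grad (φ.comp θ) b l) • d (θ (X l)) := by
  classical
  induction b using MvPolynomial.induction_on with
  | C r => simp [← algebraMap_eq, hd.algebraMap]
  | add p q hp hq =>
    rw [map_add, map_add, hp, hq, map_add, ← Finset.sum_add_distrib]
    simp [add_smul]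
  | mul_X p i hp =>
    rw [map_mul, hd, grad_mul, hp]
    simp only [Pi.add_apply, add_smul, Finset.sum_add_distrib, grad_X, Pi.smul_apply, smul_eq_mul, AlgHom.comp_apply]
    congr 1
    · rw [Finset.sum_eq_single i]
      · simp
      · intro j _ hj
        simp [Pi.single_eq_of_ne hj]
      · simp
    · rw [Finset.smul_sum]
      simp [mul_smul]

lemma level_zero' (b : MvPolynomial ι R) (hb : grad (φ.comp θ) b = 0) : d (θ b) = 0 := by
  rw [level_zero hd θ, hb]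
  simp

end

/-- The prime of points reducing to the closed point: elements whose value is in the ideal `(ϖ)`. -/
noncomputable def valIdeal (α : MvPolynomial ι R →ₐ[R] R) (ϖ : R) : Ideal (MvPolynomial ι R) :=
  Ideal.comap α (Ideal.span {ϖ})

omit [Fintype ι] in
lemma mem_valIdeal {α : MvPolynomial ι R →ₐ[R] R} {ϖ : R} {b : MvPolynomial ι R} :
    b ∈ valIdeal α ϖ ↔ ∃ r, α b = ϖ * r := by
  rw [valIdeal, Ideal.mem_comap, Ideal.mem_span_singleton]
  rfl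

/-- (H1): modulo the square-type ideal, an element of `J` with gradient in `(ϖ)` is locally in `𝔭J + (ϖ)`. -/
def H1 (α : MvPolynomial ι R →ₐ[R] R) (ϖ : R) (J : Ideal (MvPolynomial ι R)) : Prop :=
  ∀ y ∈ J, (∀ l, ∃ r, grad α y l = ϖ * r) → ∃ s, IsUnit (α s) ∧ s * y ∈ valIdeal α ϖ * J ⊔ Ideal.span {C ϖ}

/-- (H2): an element of `I` with gradient in `(ϖ)` is locally in `J² + 𝔭I`. -/
def H2 (α : MvPolynomial ι R →ₐ[R] R) (ϖ : R) (J I : Ideal (MvPolynomial ι R)) : Prop :=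
  ∀ g ∈ I, (∀ l, ∃ r, grad α g l = ϖ * r) → ∃ s, IsUnit (α s) ∧ s * g ∈ J ^ 2 ⊔ valIdeal α ϖ * I

section Main

variable {φ : A' →ₐ[R] R} {d : A' →ₗ[R] V} (hd : IsDer φ d) (θ : MvPolynomial ι R →ₐ[R] A')
  {ϖ : R} (hϖ : ∀ r : R, ϖ * r = 0 → r = 0) (hA' : ∀ z : A', ϖ • z = 0 → z = 0)
  {J : Ideal (MvPolynomial ι R)} (hJ : ∀ y ∈ J, ∃ z : A', ϖ • z = θ y) (hJϖ : C ϖ ∈ J)

include hA' in
lemma smul_inj {z w : A'} (h : ϖ • z = ϖ • w) : z = w := by
  rw [← sub_eq_zero] at h ⊢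
  exact hA' _ (by rw [smul_sub, h])

include hϖ in
lemma mul_inj {r s : R} (h : ϖ * r = ϖ * s) : r = s := by
  rw [← sub_eq_zero] at h ⊢
  exact hϖ _ (by rw [mul_sub, h])

include hϖ in
lemma pi_smul_inj {ι : Type*} {v w : ι → R} (h : ϖ • v = ϖ • w) : v = w := by
  ext l
  exact mul_inj hϖ (congrFun h l)

include hd hϖ hA' hJ hJϖ

omit hd hϖ hA' hJϖ [Fintype ι] in
/-- values of elements of `J` are divisible by `ϖ`. -/
lemma exists_val {y : MvPolynomial ι R} (hy : y ∈ J) : ∃ z : A', ϖ • z = θ y ∧ (φ.comp θ) y = ϖ * φ z := by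
  obtain ⟨z, hz⟩ := hJ y hy
  refine ⟨z, hz, ?_⟩
  rw [AlgHom.comp_apply, ← hz, map_smul, smul_eq_mul]

/-- Claim A. -/
lemma claimA {z : MvPolynomial ι R} (hz : z ∈ valIdeal (φ.comp θ) ϖ * J ⊔ Ideal.span {C ϖ}) :
    ∃ c : MvPolynomial ι R, grad (φ.comp θ) z = ϖ • grad (φ.comp θ) c ∧
      ∀ w : A', ϖ • w = θ z → d w = d (θ c) := by
  have hadd : ∀ z₁ z₂ : MvPolynomial ι R, z₁ ∈ J → z₂ ∈ J →
      (∃ c : MvPolynomial ι R, grad (φ.comp θ) z₁ = ϖ • grad (φ.comp θ) c ∧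
        ∀ w : A', ϖ • w = θ z₁ → d w = d (θ c)) →
      (∃ c : MvPolynomial ι R, grad (φ.comp θ) z₂ = ϖ • grad (φ.comp θ) c ∧
        ∀ w : A', ϖ • w = θ z₂ → d w = d (θ c)) →
      (∃ c : MvPolynomial ι R, grad (φ.comp θ) (z₁ + z₂) = ϖ • grad (φ.comp θ) c ∧
        ∀ w : A', ϖ • w = θ (z₁ + z₂) → d w = d (θ c)) := by
    rintro z₁ z₂ h1 h2 ⟨c₁, hc₁, hd₁⟩ ⟨c₂, hc₂, hd₂⟩
    refine ⟨c₁ + c₂, by rw [map_add, map_add, hc₁, hc₂, smul_add], fun w hw => ?_⟩
    obtain ⟨w₁, hw₁⟩ := hJ z₁ h1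
    obtain ⟨w₂, hw₂⟩ := hJ z₂ h2
    have : w = w₁ + w₂ := smul_inj hA' (by rw [hw, map_add, smul_add, hw₁, hw₂])
    rw [this, map_add, hd₁ _ hw₁, hd₂ _ hw₂, map_add, map_add]
  obtain ⟨z₁, hz₁, z₂, hz₂, rfl⟩ := Submodule.mem_sup.mp hz
  have hz₁J : z₁ ∈ J := Ideal.mul_le_right hz₁
  have hz₂J : z₂ ∈ J := (Ideal.span_singleton_le_iff_mem _).mpr hJϖ hz₂
  refine hadd z₁ z₂ hz₁J hz₂J ?_ ?_
  · clear hz hz₂ hz₂J z₂
    suffices H : z₁ ∈ J ∧ ∃ c : MvPolynomial ι R, grad (φ.comp θ) z₁ = ϖ • grad (φ.comp θ) c ∧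
        ∀ w : A', ϖ • w = θ z₁ → d w = d (θ c) from H.2
    refine Submodule.mul_induction_on hz₁ ?_ ?_
    · intro b hb y hy
      refine ⟨Ideal.mul_mem_left _ _ hy, ?_⟩
      obtain ⟨γ, hγ⟩ := mem_valIdeal.mp hb
      obtain ⟨w, hw, hwv⟩ := exists_val (φ := φ) θ hJ hy
      refine ⟨C γ * y + C (φ w) * b, ?_, ?_⟩
      · rw [grad_mul, map_add, grad_C_mul, grad_C_mul, hγ, hwv, smul_add, smul_smul, smul_smul]
      · intro w' hw'
        have h1 : w' = θ b * w := smul_inj hA' (by rw [hw', map_mul, ← hw, mul_smul_comm])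
        have h2 : φ (θ b) = ϖ * γ := hγ
        rw [h1, hd, map_add, map_add, h2, ← smul_eq_C_mul, ← smul_eq_C_mul, map_smul, map_smul, map_smul,
          map_smul, ← hw, map_smul, mul_comm ϖ γ, mul_smul]
    · rintro z₁ z₂ ⟨h1, h1'⟩ ⟨h2, h2'⟩
      exact ⟨J.add_mem h1 h2, hadd z₁ z₂ h1 h2 h1' h2'⟩
  · obtain ⟨b, rfl⟩ := Ideal.mem_span_singleton.mp hz₂
    refine ⟨b, by rw [grad_C_mul], fun w hw => ?_⟩
    have : w = θ b := smul_inj hA' (by rw [hw, ← smul_eq_C_mul, map_smul])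
    rw [this]

/-- Level 1. -/
lemma level_one (h1 : H1 (φ.comp θ) ϖ J) {y : MvPolynomial ι R} (hy : y ∈ J) (hg : grad (φ.comp θ) y = 0)
    {w : A'} (hw : ϖ • w = θ y) : d w = 0 := by
  -- normalise the value to be zero
  have key : ∀ (y : MvPolynomial ι R), y ∈ J → grad (φ.comp θ) y = 0 → ∀ w : A', ϖ • w = θ y → φ w = 0 → d w = 0 := by
    intro y hy hg w hw hφ
    obtain ⟨s, hs, hsy⟩ := h1 y hy fun l => ⟨0, by rw [hg, mul_zero]; rfl⟩
    obtain ⟨c, hc, hdc⟩ := claimA hd θ hϖ hA' hJ hJϖ hsy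
    have hval : (φ.comp θ) y = 0 := by
      rw [AlgHom.comp_apply, ← hw, map_smul, hφ, smul_zero]
    have hgc : grad (φ.comp θ) c = 0 := by
      refine pi_smul_inj hϖ ?_
      rw [← hc, grad_mul, hg, hval]
      simp
    have h2 := hdc (θ s * w) (by rw [map_mul, ← hw, mul_smul_comm])
    rw [level_zero' hd θ c hgc, hd, hφ, zero_smul, add_zero] at h2
    exact (hs.smul_eq_zero).mp h2
  have hC : C (φ w) * C ϖ ∈ J := J.mul_mem_left _ hJϖ
  have h2 := key (y - C (φ w) * C ϖ) (J.sub_mem hy hC) (by rw [map_sub, hg, grad_C_mul, grad_C, smul_zero, sub_zero])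
    (w - algebraMap R A' (φ w)) (by
      rw [smul_sub, hw, map_sub, ← C_mul, ← algebraMap_eq, AlgHom.commutes, map_mul]
      rw [Algebra.smul_def, mul_comm]) (by simp)
  rw [map_sub, hd.algebraMap, sub_zero] at h2
  exact h2

/-- Claim B. -/
lemma claimB {q : MvPolynomial ι R} (hq : q ∈ J ^ 2) :
    ∃ y ∈ J, grad (φ.comp θ) q = ϖ • grad (φ.comp θ) y ∧
      (∃ w : A', ϖ • ϖ • w = θ q) ∧
      ∀ w v : A', ϖ • ϖ • w = θ q → ϖ • v = θ y → d w = d v := by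
  rw [pow_two] at hq
  refine Submodule.mul_induction_on hq ?_ ?_
  · intro a ha b hb
    obtain ⟨u, hu, huv⟩ := exists_val (φ := φ) θ hJ ha
    obtain ⟨t, ht, htv⟩ := exists_val (φ := φ) θ hJ hb
    refine ⟨C (φ u) * b + C (φ t) * a, J.add_mem (J.mul_mem_left _ hb) (J.mul_mem_left _ ha), ?_, ⟨u * t, ?_⟩, ?_⟩
    · rw [grad_mul, map_add, grad_C_mul, grad_C_mul, huv, htv, smul_add, smul_smul, smul_smul]
    · rw [map_mul, ← hu, ← ht, smul_mul_smul_comm, smul_smul]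
    · intro w v hw hv
      have h1 : w = u * t := smul_inj hA' (smul_inj hA' (by rw [hw, map_mul, ← hu, ← ht, smul_mul_smul_comm, smul_smul]))
      have h2 : v = φ u • t + φ t • u := smul_inj hA' (by
        rw [hv, map_add, ← smul_eq_C_mul, ← smul_eq_C_mul, map_smul, map_smul, ← hu, ← ht, smul_add,
          smul_comm ϖ, smul_comm ϖ])
      rw [h1, h2, hd, map_add, map_smul, map_smul]
  · rintro q₁ q₂ ⟨y₁, hy₁, hg₁, ⟨w₁, hw₁⟩, h₁⟩ ⟨y₂, hy₂, hg₂, ⟨w₂, hw₂⟩, h₂⟩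
    refine ⟨y₁ + y₂, J.add_mem hy₁ hy₂, by rw [map_add, hg₁, hg₂, map_add, smul_add],
      ⟨w₁ + w₂, by rw [smul_add, smul_add, hw₁, hw₂, map_add]⟩, ?_⟩
    intro w v hw hv
    obtain ⟨v₁, hv₁⟩ := hJ y₁ hy₁
    obtain ⟨v₂, hv₂⟩ := hJ y₂ hy₂
    have e1 : w = w₁ + w₂ := smul_inj hA' (smul_inj hA' (by rw [hw, smul_add, smul_add, hw₁, hw₂, map_add]))
    have e2 : v = v₁ + v₂ := smul_inj hA' (by rw [hv, smul_add, hv₁, hv₂, map_add])
    rw [e1, e2, map_add, map_add, h₁ _ _ hw₁ hv₁, h₂ _ _ hw₂ hv₂]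

omit hd hϖ hA' hJ hJϖ [Fintype ι] in
/-- Claim C. -/
lemma claimC {I : Ideal (MvPolynomial ι R)} (hI : ∀ g ∈ I, θ g = 0) {r : MvPolynomial ι R}
    (hr : r ∈ valIdeal (φ.comp θ) ϖ * I) :
    ∃ g ∈ I, grad (φ.comp θ) r = ϖ • grad (φ.comp θ) g := by
  refine Submodule.mul_induction_on hr ?_ ?_
  · intro b hb g hg
    obtain ⟨γ, hγ⟩ := mem_valIdeal.mp hb
    have hg0 : (φ.comp θ) g = 0 := by rw [AlgHom.comp_apply, hI g hg, map_zero]
    refine ⟨C γ * g, I.mul_mem_left _ hg, ?_⟩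
    rw [grad_mul, grad_C_mul, hγ, hg0, zero_smul, add_zero, smul_smul]
  · rintro r₁ r₂ ⟨g₁, hg₁, h₁⟩ ⟨g₂, hg₂, h₂⟩
    exact ⟨g₁ + g₂, I.add_mem hg₁ hg₂, by rw [map_add, h₁, h₂, map_add, smul_add]⟩

/-- Level 2. -/
theorem level_two (h1 : H1 (φ.comp θ) ϖ J) {I : Ideal (MvPolynomial ι R)} (hI : ∀ g ∈ I, θ g = 0) (hIJ : I ≤ J)
    (h2 : H2 (φ.comp θ) ϖ J I) {h : MvPolynomial ι R} (hh : h ∈ J ^ 2 ⊔ I) (hg : grad (φ.comp θ) h = 0)
    {w : A'} (hw : ϖ • ϖ • w = θ h) : d w = 0 := by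
  have hIval : ∀ r ∈ I, (φ.comp θ) r = 0 := fun r hr => by rw [AlgHom.comp_apply, hI r hr, map_zero]
  have key : ∀ h : MvPolynomial ι R, h ∈ J ^ 2 ⊔ I → grad (φ.comp θ) h = 0 → ∀ w : A', ϖ • ϖ • w = θ h →
      φ w = 0 → d w = 0 := by
    intro h hh hg w hw hφ
    obtain ⟨q, hq, g, hgI, rfl⟩ := Submodule.mem_sup.mp hh
    obtain ⟨y, hy, hqy, -, hdy⟩ := claimB hd θ hϖ hA' hJ hJϖ hq
    rw [map_add, hqy] at hg
    obtain ⟨s, hs, hsg⟩ := h2 g hgI fun l => ⟨-(grad (φ.comp θ) y l), by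
      have := congrFun hg l
      simp only [Pi.add_apply, Pi.smul_apply, smul_eq_mul, Pi.zero_apply] at this
      linear_combination this⟩
    obtain ⟨q', hq', r, hr, hqr⟩ := Submodule.mem_sup.mp hsg
    obtain ⟨g', hg', hrg'⟩ := claimC (φ := φ) θ hI hr
    have hq'' : s * q + q' ∈ J ^ 2 := (J ^ 2).add_mem ((J ^ 2).mul_mem_left _ hq) hq'
    obtain ⟨y'', hy'', hgy'', ⟨w'', hw''⟩, hdy''⟩ := claimB hd θ hϖ hA' hJ hJϖ hq''
    have hrI : r ∈ I := Ideal.mul_le_right hr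
    have hsh : s * (q + g) = (s * q + q') + r := by rw [mul_add, ← hqr, add_assoc]
    have hval : (φ.comp θ) (q + g) = 0 := by
      rw [AlgHom.comp_apply, ← hw, map_smul, map_smul, hφ, smul_zero, smul_zero]
    have hgrad0 : grad (φ.comp θ) (s * (q + g)) = 0 := by
      rw [grad_mul, hval, zero_smul, add_zero, map_add, hqy, hg, smul_zero]
    have hyg : grad (φ.comp θ) (y'' + g') = 0 := by
      refine pi_smul_inj hϖ ?_
      rw [hsh, map_add, hgy'', hrg', ← smul_add, ← map_add] at hgrad0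
      rw [hgrad0, smul_zero]
    obtain ⟨v, hv⟩ := hJ y'' hy''
    have hdv : d v = 0 := level_one hd θ hϖ hA' hJ hJϖ h1 (J.add_mem hy'' (hIJ hg')) hyg (w := v) (by
      rw [map_add, hI g' hg', add_zero, hv])
    have e1 : ϖ • ϖ • (θ s * w) = θ (s * q + q') := by
      rw [← mul_smul_comm, ← mul_smul_comm, hw, ← map_mul, hsh, map_add, hI r hrI, add_zero]
    have e2 := hdy'' _ _ e1 hv
    rw [hdv, hd, hφ, zero_smul, add_zero] at e2
    exact (hs.smul_eq_zero).mp e2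
  have hC : C (φ w) * (C ϖ * C ϖ) ∈ J ^ 2 := (J ^ 2).mul_mem_left _ (by rw [pow_two]; exact Ideal.mul_mem_mul hJϖ hJϖ)
  have h2 := key (h - C (φ w) * (C ϖ * C ϖ)) (Submodule.sub_mem _ hh (Submodule.mem_sup_left hC))
    (by rw [map_sub, hg, ← C_mul, grad_C_mul, grad_C, smul_zero, sub_zero])
    (w - algebraMap R A' (φ w)) (by
      rw [smul_sub, smul_sub, hw, map_sub, ← C_mul, ← C_mul, ← algebraMap_eq, AlgHom.commutes, smul_smul,
        Algebra.smul_def, ← map_mul, mul_comm]) (by simp)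
  rw [map_sub, hd.algebraMap, sub_zero] at h2
  exact h2

end Main

end Groth.Agent.Sga7.H132.Levels
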