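import Groth.Agent.Sga5.ProjChart
import Groth.Agent.S0024
import Mathlib.AlgebraicGeometry.ProjectiveSpectrum.Basic
import Mathlib.RingTheory.DiscreteValuationRing.Basic
import Mathlib.RingTheory.Valuation.ValuationRing

/-!
# Coordinates of rational points of projective space
-/

set_option autoImplicit false
universe u

open CategoryTheory AlgebraicGeometry MvPolynomial HomogeneousLocalization

namespace Groth.Agent.Sga7.H132.ProjPts

open Groth.Agent.Sga5.ProjChart

variable (n : ℕ) (K : Type u) [CommRing K]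

/-- The chart of projective space. -/
noncomputable abbrev chart (i : Fin (n + 1)) : Spec (CommRingCat.of (Chart n K i)) ⟶ CohB1.ProjSpace n K :=
  Proj.awayι (CohB1.polyGrading n K) (X i) (X_mem n K i) one_pos

instance isOpenImmersion_chart (i : Fin (n + 1)) : IsOpenImmersion (chart n K i) :=
  inferInstanceAs (IsOpenImmersion (Proj.awayι (CohB1.polyGrading n K) (X i) (X_mem n K i) one_pos))

lemma chart_toSpec (i : Fin (n + 1)) :
    chart n K i ≫ CohB1.ProjSpace.toSpec n K = Spec.map (CommRingCat.ofHom (chartC n K i)) := by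
  have : chart n K i ≫ CohB1.ProjSpace.toSpec n K = Proj.awayι (CohB1.polyGrading n K) (X i) (X_mem n K i) one_pos ≫
    Proj.toSpecZero (CohB1.polyGrading n K) ≫
    Spec.map (CommRingCat.ofHom (algebraMap K (CohB1.polyGrading n K 0))) := rfl
  rw [this, Proj.awayι_toSpecZero_assoc, ← Spec.map_comp]
  rfl

lemma exists_mem_range (x : CohB1.ProjSpace n K) : ∃ i, x ∈ Set.range (chart n K i) := by
  obtain ⟨y, hy⟩ := (S0024.cover n K).covers x
  exact ⟨_, y, hy⟩

/-- Transition between the charts. -/
theorem exists_transition {L : Type u} [Field L] (i j : Fin (n + 1)) (χ : Chart n K i →+* L)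
    (h : χ (coord n K i j) ≠ 0) :
    ∃ χ' : Chart n K j →+* L, Spec.map (CommRingCat.ofHom χ') ≫ chart n K j =
      Spec.map (CommRingCat.ofHom χ) ≫ chart n K i ∧
      ∀ l, χ' (coord n K j l) * χ (coord n K i j) = χ (coord n K i l) := by
  let 𝒜 := CohB1.polyGrading n K
  let W := HomogeneousLocalization.Away 𝒜 (X i * X j)
  let mi : Chart n K i →+* W := awayMap 𝒜 (X_mem n K j) rfl
  let mj : Chart n K j →+* W := awayMap 𝒜 (X_mem n K i) (mul_comm (X i) (X j))
  have hi : Spec.map (CommRingCat.ofHom mi) ≫ chart n K i =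
      Proj.awayι 𝒜 (X i * X j) (SetLike.mul_mem_graded (X_mem n K i) (X_mem n K j)) (by omega) :=
    Proj.SpecMap_awayMap_awayι 𝒜 (X_mem n K i) one_pos (X_mem n K j) rfl
  have hj : Spec.map (CommRingCat.ofHom mj) ≫ chart n K j =
      Proj.awayι 𝒜 (X i * X j) (SetLike.mul_mem_graded (X_mem n K i) (X_mem n K j)) (by omega) :=
    Proj.SpecMap_awayMap_awayι 𝒜 (X_mem n K j) one_pos (X_mem n K i) (mul_comm (X i) (X j))
  let : Algebra (Chart n K i) W := mi.toAlgebra
  have hloc : IsLocalization.Away (Away.isLocalizationElem (X_mem n K i) (X_mem n K j)) W :=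
    Away.isLocalization_mul (X_mem n K i) (X_mem n K j) rfl one_ne_zero
  have helem : Away.isLocalizationElem (X_mem n K i) (X_mem n K j) = coord n K i j := by
    apply HomogeneousLocalization.val_injective
    rw [coord, Away.val_mk, Away.val_mk, pow_one]
  rw [helem] at hloc
  let ω : W →+* L := IsLocalization.Away.lift (coord n K i j) (g := χ) (isUnit_iff_ne_zero.2 h)
  have hω : ω.comp mi = χ := IsLocalization.Away.lift_comp (coord n K i j) (isUnit_iff_ne_zero.2 h)
  refine ⟨ω.comp mj, ?_, ?_⟩
  · rw [CommRingCat.ofHom_comp, Spec.map_comp, Category.assoc, hj, ← hi, ← Category.assoc, ← Spec.map_comp,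
      ← CommRingCat.ofHom_comp, hω]
  · intro l
    have h1 : mj (coord n K j l) * mi (coord n K i j) = mi (coord n K i l) := by
      apply HomogeneousLocalization.val_injective
      rw [HomogeneousLocalization.val_mul]
      change (awayMap 𝒜 (X_mem n K i) (mul_comm (X i) (X j)) (Away.mk _ _ _ _ _)).val *
        (awayMap 𝒜 (X_mem n K j) rfl (Away.mk _ _ _ _ _)).val = (awayMap 𝒜 (X_mem n K j) rfl (Away.mk _ _ _ _ _)).val
      rw [awayMap_mk, awayMap_mk, awayMap_mk, Away.val_mk, Away.val_mk, Away.val_mk, Localization.mk_mul,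
        Localization.mk_eq_mk_iff, Localization.r_iff_exists]
      refine ⟨1, ?_⟩
      simp
      ring
    rw [← hω]
    change ω (mj (coord n K j l)) * ω (mi (coord n K i j)) = ω (mi (coord n K i l))
    rw [← map_mul, h1]

theorem exists_chart_pt {n : ℕ} {K : Type u} [CommRing K] {L : Type u} [Field L]
    (p : Spec (CommRingCat.of L) ⟶ CohB1.ProjSpace n K) :
    ∃ (i : Fin (n + 1)) (χ : Chart n K i →+* L), Spec.map (CommRingCat.ofHom χ) ≫ chart n K i = p := by
  let x : Spec (CommRingCat.of L) := IsLocalRing.closedPoint L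
  obtain ⟨i, hi⟩ := exists_mem_range n K (p x)
  have hr : Set.range p ⊆ Set.range (chart n K i) := by
    rintro _ ⟨y, rfl⟩
    have : y = x := Subsingleton.elim _ _
    rw [this]
    exact hi
  refine ⟨i, (Spec.preimage (IsOpenImmersion.lift (chart n K i) p hr)).hom, ?_⟩
  rw [CommRingCat.ofHom_hom, Spec.map_preimage, IsOpenImmersion.lift_fac]

/-- A rational point over the fraction field of a valuation ring has integral coordinates in some chart. -/
theorem exists_integral_chart {R K : Type u} [CommRing R] [IsDomain R] [ValuationRing R] [Field K] [Algebra R K]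
    [IsFractionRing R K] {n : ℕ} {k : Type u} [CommRing k] (p : Spec (CommRingCat.of K) ⟶ CohB1.ProjSpace n k) :
    ∃ (i : Fin (n + 1)) (χ : Chart n k i →+* K), Spec.map (CommRingCat.ofHom χ) ≫ chart n k i = p ∧
      ∀ l, χ (coord n k i l) ∈ Set.range (algebraMap R K) := by
  obtain ⟨i, χ, hχ⟩ := exists_chart_pt p
  obtain ⟨j, -, hj⟩ := Finset.exists_max_image (Finset.univ : Finset (Fin (n + 1)))
    (fun l => ValuationRing.valuation R K (χ (coord n k i l))) ⟨i, Finset.mem_univ i⟩
  have hne : χ (coord n k i j) ≠ 0 := by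
    intro h0
    have h1 := hj i (Finset.mem_univ i)
    rw [h0, map_zero, coord_self, map_one, map_one] at h1
    exact absurd h1 (by simp)
  obtain ⟨χ', h1, h2⟩ := exists_transition n k i j χ hne
  refine ⟨j, χ', h1.trans hχ, fun l => ?_⟩
  have h3 : ValuationRing.valuation R K (χ' (coord n k j l)) ≤ 1 := by
    have h4 := hj l (Finset.mem_univ l)
    rw [← h2 l, map_mul] at h4
    have h5 : ValuationRing.valuation R K (χ (coord n k i j)) ≠ 0 := (Valuation.ne_zero_iff _).2 hne
    exact le_of_mul_le_mul_right (by rwa [one_mul]) (zero_lt_iff.2 h5)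
  obtain ⟨r, hr⟩ := (ValuationRing.mem_integer_iff R K _).1 h3
  exact ⟨r, hr⟩

end Groth.Agent.Sga7.H132.ProjPts
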